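import Cfsg.Agent.Helper28.CosetCox
set_option autoImplicit false
set_option maxRecDepth 1000000
namespace Cfsg.Agent.Helper28.HeQ
open Cfsg.Agent.Helper28
def leaf0 : Nat := 0x400000000000000000000003f00000000013f00000000083f00008000010000008000080400008000080200000000003f00000000023f00009000010400009000023f0000a00009060000a0000a0c0000a0000a0a0000a0000a04000020000a0000002000090600008000080200001000080400001000000500001000003f00003000010600003000030a00003000030a00002000020600002000020600001000010800001000010c00003000030c00002000020800000000003f00000000053f00000000050c00000000000600000000003f00004000000a00004000040c00000000040d00000000040a00000000003f00000000063f00007000040600006000070c00006000040c00004000060a0000000006060000000004040000000003020000000002000000000001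
def leaf1 : Nat := 0x8400002000008000002000008200001000004c00000000004a00000000004800000000004600000000004400000000004200000000004000000000000000000
def leaf2 : Nat := 0x4100004000002900002800004d00004c00003d00003c0000c50000c40000a90000a80000c10000c0
def leaf3 : Nat := 0
def leaf4 : Nat := 0
def leaf5 : Nat := 0
def leaf6 : Nat := 0
def leaf7 : Nat := 0
def leaf8 : Nat := 0
def leaf9 : Nat := 0
def leaf10 : Nat := 0
def leaf11 : Nat := 0
def leaf12 : Nat := 0
def leaf13 : Nat := 0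
def leaf14 : Nat := 0
def leaf15 : Nat := 0
def leaf16 : Nat := 0
def leaf17 : Nat := 0
def factsTr : Tr := (.leaf leaf0)
def defsTr : Tr := (.leaf leaf1)
def finTr : Tr := (.leaf leaf2)
def parTr : Tr := (.leaf leaf3)
def letTr : Tr := (.node (.node (.node (.node (.leaf leaf4) (.leaf leaf5)) (.node (.leaf leaf6) (.leaf leaf7))) (.node (.node (.leaf leaf8) (.leaf leaf9)) (.leaf leaf10))) (.node (.node (.node (.leaf leaf11) (.leaf leaf12)) (.node (.leaf leaf13) (.leaf leaf14))) (.node (.node (.leaf leaf15) (.leaf leaf16)) (.leaf leaf17))))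
def wordsTr : WTr := (.node (.node (.node (.node (.node (.node (.node (.leaf [0, 0]) (.leaf [10, 11])) (.leaf [8, 8])) (.node (.leaf [4, 4]) (.leaf [12, 12]))) (.node (.node (.leaf [2, 2]) (.leaf [10, 10])) (.node (.leaf [6, 6]) (.leaf [2, 3])))) (.node (.node (.node (.node (.leaf [0, 8, 0, 8]) (.leaf [])) (.leaf [10, 2, 10, 2])) (.node (.leaf [4, 12, 4, 12]) (.leaf [4, 6, 10, 12, 4, 6, 10, 12, 4, 6, 10, 12, 4, 6, 10, 12]))) (.node (.node (.leaf [2, 10, 2, 10]) (.leaf [12, 4, 12, 4])) (.node (.leaf [8, 0, 8, 0]) (.leaf [6, 7]))))) (.node (.node (.node (.node (.node (.leaf [0, 4, 0, 4]) (.leaf [12, 13])) (.leaf [8, 12, 8, 12])) (.node (.leaf [4, 8, 4, 8]) (.leaf [8, 5, 3, 1, 5, 3, 1, 5, 3, 1]))) (.node (.node (.leaf [2, 6, 2, 6]) (.leaf [12, 0, 12, 0])) (.node (.leaf [6, 10, 6, 10, 6, 10]) (.leaf [4, 5])))) (.node (.node (.node (.leaf [0, 12, 0, 12]) (.leaf [10, 6, 10, 6, 10, 6])) (.node (.leaf [6, 2, 6, 2]) (.leaf [0, 1]))) (.node (.node (.leaf [4,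 0, 4, 0]) (.leaf [12, 8, 12, 8])) (.node (.leaf [8, 4, 8, 4]) (.leaf [8, 9])))))) (.node (.node (.node (.node (.node (.node (.leaf [0, 2, 0, 2, 0, 2, 0, 2]) (.leaf [11, 10])) (.leaf [8, 10, 8, 10])) (.node (.leaf [4, 6, 4, 6, 4, 6, 4, 6, 4, 6, 4, 6, 4, 6, 4, 6, 4, 6, 4, 6]) (.leaf [8, 13, 11, 13, 11]))) (.node (.node (.leaf [2, 4, 2, 4, 2, 4]) (.leaf [10, 12, 10, 12, 10, 12, 10, 12])) (.node (.leaf [6, 8, 6, 8, 6, 8]) (.leaf [3, 2])))) (.node (.node (.node (.leaf [0, 10, 0, 10]) (.leaf [10, 4, 10, 4])) (.node (.leaf [6, 0, 6, 0]) (.leaf [10, 12, 6]))) (.node (.node (.leaf [2, 12, 2, 12]) (.leaf [12, 6, 12, 6, 12, 6])) (.node (.leaf [8, 2, 8, 2]) (.leaf [7, 6]))))) (.node (.node (.node (.node (.node (.leaf [0, 6, 0, 6]) (.leaf [13, 12])) (.leaf [10, 0, 10, 0])) (.node (.leaf [4, 10, 4, 10]) (.leaf [0, 7, 5, 7, 5, 7, 5, 7, 5, 7, 5]))) (.node (.node (.leaf [2, 8, 2, 8]) (.leaf [12, 2, 12, 2])) (.node (.leaf [6, 12, 6, 12, 6, 12]) (.leaf [5, 4])))) (.node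 (.node (.node (.leaf [2, 0, 2, 0, 2, 0, 2, 0]) (.leaf [10, 8, 10, 8])) (.node (.leaf [6, 4, 6, 4, 6, 4, 6, 4, 6, 4, 6, 4, 6, 4, 6, 4, 6, 4, 6, 4]) (.leaf [1, 0]))) (.node (.node (.leaf [4, 2, 4, 2, 4, 2]) (.leaf [12, 10, 12, 10, 12, 10, 12, 10])) (.node (.leaf [8, 6, 8, 6, 8, 6]) (.leaf [9, 8])))))))
noncomputable def tabs : Tabs where
  M := 11
  nsub := 0
  nwords := 69
  word := wordsTr.get
  defn := fun d => defsTr.look 10 1023 48 281474976710655 d
  fact := fun k => factsTr.look 10 1023 48 281474976710655 k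
noncomputable def ptabs : PTabs where
  n := 1
  L := 14
  perm := fun l i => Nat.land (Nat.shiftRight (letTr.get l) (Nat.mul 1 i)) 1
  fin := fun i l => finTr.look 10 1023 24 16777215 (Nat.add (Nat.mul i 14) l)
  par := fun i => parTr.look 10 1023 32 4294967295 i
theorem perm_eq : ∀ l i, ptabs.perm l i = Nat.land (Nat.shiftRight (letTr.get l) (Nat.mul 1 i)) 1 := fun _ _ => rfl
end Cfsg.Agent.Helper28.HeQ
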