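import Cfsg.Agent.Helper28.HeQ.Data
set_option autoImplicit false
set_option maxRecDepth 1000000
namespace Cfsg.Agent.Helper28.HeQ
open Cfsg.Agent.Helper28
def chunks0 : List Nat := [0x220001000010800000f0000700002000013b0000080000700002000013a00000f00006d00000900003d00000f00006d00000900003d00000f00006d0000060a0100000330000540000680002000033500000e000028000008000300003130000600000500200000023500000a00003c0000040003000020a00000600003c0000000003000010300000600004c0000000003000010400000e0000400000080003000031400000a0000400000040003000020d0000170000490002000003f000045000100000440000290000410000290000410000160401000003100002c000038000200000430000130000380002000003d00003400001200002800000c00003400000c0501000041a00001200003002000000435000019000025000200000430000140000250002000004200001b0000250002000004100001c00002000000d0003000003d00001400001c00001e00000c00001400001c0006000071b00001e000010000200006350000140001000063000000c00001a0101000003500001a000100000280000120001000001800000e0001000001000000a000100000080000060001000000020, 0x790000bd0002000003b0000070000bd000200000370000b50000b9000200000440000b00000b40000010003000003700007c0000b00000220000060000a800000000007c0000b0000800008010000ad0000810000ad0000810000ad0000810000ad0000810000ad0000810a00000083300007500007c0000220000780000a80203000000900000b0000a5000200000390000840000a00000010003000003700000100000b00009d00008500000500007900000100000b00009d0000580901000013200002b0000980002000093b00002b00009500008900006100002b00009500008900006100002b0000950000260a01000023300009000008c00020000a3500005000008800002a0201000021400006400008800002a0201000021300002a000100002100000260001000020000005c00007c0000220201000010a12]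
theorem facts_ok0 : checkChunks tabs chunks0 0 50 = true := by decide +kernel
end Cfsg.Agent.Helper28.HeQ
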